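import Mathlib
import Groth.Agent.H8Norm.WeilClosed
import Groth.Agent.H19Grp.PiClosedGlobal

/-!
# The scheme of strata of an increasing chain of ideals
-/

set_option autoImplicit false
set_option linter.style.haveILetI false
set_option backward.isDefEq.respectTransparency false

universe u

open CategoryTheory CategoryTheory.Limits AlgebraicGeometry TopologicalSpace

namespace Groth.Agent.H8Norm.FdRing

variable {A : CommRingCat.{u}} (c : ℕ → Ideal A) (N : ℕ)

/-- The membership condition of the strata. -/
def StrataCond (A' : Type u) [CommRing A'] [Algebra A A'] : Prop :=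
  ∀ t : Ideal A', t.IsPrime → ∃ k ≤ N, ¬ (c (k + 1)).map (algebraMap A A') ≤ t ∧
    ∀ x ∈ c k, ∃ a ∉ t, a * algebraMap A A' x = 0

/-- The closed stratum of index `k`. -/
noncomputable abbrev closedPart (k : ℕ) : Spec (CommRingCat.of (A ⧸ c k)) ⟶ Spec A :=
  Spec.map (CommRingCat.ofHom (Ideal.Quotient.mk (c k)))

/-- The open complement of the next stratum. -/
noncomputable def openPart (k : ℕ) : (Spec A).Opens :=
  ⟨(PrimeSpectrum.zeroLocus (c (k + 1) : Set A))ᶜ, (PrimeSpectrum.isClosed_zeroLocus _).isOpen_compl⟩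

/-- The piece of index `k`. -/
noncomputable def piece (k : ℕ) : (closedPart c k ⁻¹ᵁ openPart c k).toScheme ⟶ Spec A :=
  (closedPart c k ⁻¹ᵁ openPart c k).ι ≫ closedPart c k

/-- The scheme of strata. -/
noncomputable def strata : (∐ fun k : ULift.{u} (Fin (N + 1)) => (closedPart c k.down ⁻¹ᵁ openPart c k.down).toScheme) ⟶ Spec A :=
  Sigma.desc fun k : ULift.{u} (Fin (N + 1)) => piece c k.down

variable {c N}

theorem mem_piece_range {k : ℕ} (z : (closedPart c k ⁻¹ᵁ openPart c k).toScheme) :
    c k ≤ (piece c k z).asIdeal ∧ ¬ c (k + 1) ≤ (piece c k z).asIdeal := by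
  refine ⟨fun x hx => ?_, fun h => z.2 h⟩
  show Ideal.Quotient.mk (c k) x ∈ z.1.asIdeal
  rw [Ideal.Quotient.eq_zero_iff_mem.2 hx]
  exact zero_mem _

variable (hmono : Monotone c)

include hmono in
theorem piece_index_le {k l : ℕ} (z : (closedPart c k ⁻¹ᵁ openPart c k).toScheme)
    (w : (closedPart c l ⁻¹ᵁ openPart c l).toScheme) (h : piece c k z = piece c l w) : l ≤ k := by
  by_contra hlt
  exact (mem_piece_range z).2 ((hmono (show k + 1 ≤ l by omega)).trans (h ▸ (mem_piece_range w).1))

theorem strata_ι (k : ULift.{u} (Fin (N + 1))) :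
    Sigma.ι (fun k : ULift.{u} (Fin (N + 1)) => (closedPart c k.down ⁻¹ᵁ openPart c k.down).toScheme) k ≫
      strata c N = piece c k.down := Sigma.ι_desc _ _

include hmono in
theorem strata_injective : Function.Injective (strata c N) := by
  intro z w h
  obtain ⟨⟨k, z⟩, rfl⟩ :=
    (sigmaMk fun k : ULift.{u} (Fin (N + 1)) => (closedPart c k.down ⁻¹ᵁ openPart c k.down).toScheme).surjective z
  obtain ⟨⟨l, w⟩, rfl⟩ :=
    (sigmaMk fun k : ULift.{u} (Fin (N + 1)) => (closedPart c k.down ⁻¹ᵁ openPart c k.down).toScheme).surjective w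
  simp only [sigmaMk_mk, ← Scheme.Hom.comp_apply, strata_ι] at h ⊢
  obtain rfl : k = l := ULift.down_injective (Fin.ext (le_antisymm (piece_index_le hmono w z h.symm) (piece_index_le hmono z w h)))
  haveI : IsClosedImmersion (closedPart c k.down) :=
    IsClosedImmersion.spec_of_surjective _ Ideal.Quotient.mk_surjective
  have hinj : Function.Injective (piece c k.down) :=
    (closedPart c k.down).isEmbedding.injective.comp (closedPart c k.down ⁻¹ᵁ openPart c k.down).ι.isEmbedding.injective
  rw [hinj h]

include hmono in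
theorem mono_strata : Mono (strata c N) := by
  haveI : SurjectiveOnStalks (strata c N) := IsZariskiLocalAtSource.sigmaDesc fun k => by
    haveI : IsClosedImmersion (closedPart c k.down.val) :=
      IsClosedImmersion.spec_of_surjective _ Ideal.Quotient.mk_surjective
    exact inferInstanceAs (SurjectiveOnStalks (_ ≫ closedPart c k.down.val))
  exact SurjectiveOnStalks.mono_of_injective (strata_injective hmono)

theorem locallyOfFinitePresentation_strata (hfg : ∀ k, (c k).FG) :
    LocallyOfFinitePresentation (strata c N) := by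
  refine IsZariskiLocalAtSource.sigmaDesc fun k => ?_
  haveI : LocallyOfFinitePresentation (closedPart c k.down.val) := by
    rw [HasRingHomProperty.Spec_iff (P := @LocallyOfFinitePresentation)]
    exact RingHom.FinitePresentation.of_surjective _ Ideal.Quotient.mk_surjective
      (by rw [CommRingCat.hom_ofHom, Ideal.mk_ker]; exact hfg k.down)
  exact inferInstanceAs (LocallyOfFinitePresentation (_ ≫ closedPart c k.down.val))

theorem quasiCompact_strata (hfg : ∀ k, (c k).FG) : QuasiCompact (strata c N) := by
  classical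
  have hpiece : ∀ k : ℕ, QuasiCompact (piece c k) := fun k => by
    haveI : QuasiCompact (openPart c k).ι := by
      refine quasiCompact_iff_forall_isAffineOpen.2 fun V hV => ?_
      rw [(openPart c k).ι.isOpenEmbedding.isInducing.isCompact_iff, Scheme.Hom.coe_preimage,
        Set.image_preimage_eq_inter_range, Scheme.Opens.range_ι]
      obtain ⟨t, ht⟩ := hfg (k + 1)
      have : (openPart c k : Set (Spec A)) = ⋃ x ∈ t, (PrimeSpectrum.basicOpen x : Set (PrimeSpectrum A)) := by
        ext q
        simp only [openPart, Set.mem_iUnion]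
        show ¬ (c (k + 1) : Set A) ⊆ q.asIdeal ↔ ∃ x, ∃ (_ : x ∈ t), x ∉ q.asIdeal
        rw [← ht]
        simp only [exists_prop]
        constructor
        · intro hn
          by_contra! hne
          exact hn (Submodule.span_le.2 hne)
        · rintro ⟨x, hx, hxq⟩ hle
          exact hxq (hle (Submodule.subset_span hx))
      rw [this, Set.inter_iUnion₂]
      exact t.finite_toSet.isCompact_biUnion fun x _ =>
        isCompact_inter_of_isAffine hV x
    haveI : QuasiCompact (closedPart c k ⁻¹ᵁ openPart c k).ι :=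
      MorphismProperty.of_isPullback (P := @QuasiCompact)
        (isPullback_morphismRestrict (closedPart c k) (openPart c k)) inferInstance
    exact inferInstanceAs (QuasiCompact (_ ≫ closedPart c k))
  refine quasiCompact_iff_forall_isAffineOpen.2 fun V hV => ?_
  have : ((strata c N ⁻¹ᵁ V : _) : Set _) =
      ⋃ k : ULift.{u} (Fin (N + 1)),
        Sigma.ι (fun k : ULift.{u} (Fin (N + 1)) => (closedPart c k.down ⁻¹ᵁ openPart c k.down).toScheme) k ''
          (piece c k.down ⁻¹' V) := by
    ext z
    obtain ⟨⟨k, z⟩, rfl⟩ :=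
      (sigmaMk fun k : ULift.{u} (Fin (N + 1)) => (closedPart c k.down ⁻¹ᵁ openPart c k.down).toScheme).surjective z
    simp only [sigmaMk_mk, Scheme.Hom.coe_preimage, Set.mem_preimage, Set.mem_iUnion, ← Scheme.Hom.comp_apply,
      strata_ι]
    refine ⟨fun h => ⟨k, z, h, rfl⟩, ?_⟩
    rintro ⟨l, w, hw, he⟩
    have := congrArg (strata c N) he
    rw [← Scheme.Hom.comp_apply, ← Scheme.Hom.comp_apply, strata_ι, strata_ι] at this
    exact this ▸ hw
  rw [this]
  haveI := hpiece
  exact isCompact_iUnion fun k => (((piece c k.down).isCompact_preimage hV.isCompact)).image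
    (Sigma.ι (fun k : ULift.{u} (Fin (N + 1)) => (closedPart c k.down ⁻¹ᵁ openPart c k.down).toScheme) k).continuous
where
  isCompact_inter_of_isAffine {V : (Spec A).Opens} (hV : IsAffineOpen V) (x : A) :
      IsCompact ((V : Set (Spec A)) ∩ (PrimeSpectrum.basicOpen x : Set (PrimeSpectrum A))) :=
    QuasiSeparatedSpace.inter_isCompact (V : Set (Spec A)) _ V.2 hV.isCompact
      (PrimeSpectrum.basicOpen x).2 (PrimeSpectrum.isCompact_basicOpen x)

include hmono in
/-- The points of the scheme of strata. -/
theorem exists_factor_iff (hfg : ∀ k, (c k).FG) (A' : Type u) [CommRing A'] [Algebra A A'] :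
    (∃ k : Spec (CommRingCat.of A') ⟶ _, k ≫ strata c N = Spec.map (CommRingCat.ofHom (algebraMap A A'))) ↔
      StrataCond c N A' := by
  classical
  let t₀ := Spec.map (CommRingCat.ofHom (algebraMap A A'))
  let 𝒰 := sigmaOpenCover fun k : ULift.{u} (Fin (N + 1)) => (closedPart c k.down ⁻¹ᵁ openPart c k.down).toScheme
  constructor
  · rintro ⟨g, hg⟩ t ht
    let x : Spec (CommRingCat.of A') := (⟨t, ht⟩ : PrimeSpectrum A')
    obtain ⟨⟨k, z⟩, hz⟩ :=
      (sigmaMk fun k : ULift.{u} (Fin (N + 1)) => (closedPart c k.down ⁻¹ᵁ openPart c k.down).toScheme).surjective (g x)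
    rw [sigmaMk_mk] at hz
    have htz : piece c k.down z = t₀ x := by
      rw [← strata_ι, Scheme.Hom.comp_apply, hz, ← Scheme.Hom.comp_apply, hg]
      rfl
    refine ⟨k.down, Nat.lt_succ_iff.1 k.down.2, fun hle => (mem_piece_range z).2 ?_, fun a ha => ?_⟩
    · rw [htz]
      exact fun b hb => hle (Ideal.mem_map_of_mem _ hb)
    · -- over the localization at `t` the ideal is killed
      let V : (Spec (CommRingCat.of A')).Opens := g ⁻¹ᵁ (Sigma.ι (fun k : ULift.{u} (Fin (N + 1)) =>
        (closedPart c k.down ⁻¹ᵁ openPart c k.down).toScheme) k).opensRange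
      obtain ⟨_, ⟨_, ⟨b, rfl⟩, rfl⟩, hb, hle⟩ := PrimeSpectrum.isBasis_basic_opens.exists_subset_of_mem_open
        (show x ∈ V from ⟨z, hz⟩) V.2
      let loc := Spec.map (CommRingCat.ofHom (algebraMap A' (Localization.Away b)))
      have hr : Set.range (loc ≫ g) ⊆ Set.range (Sigma.ι (fun k : ULift.{u} (Fin (N + 1)) =>
          (closedPart c k.down ⁻¹ᵁ openPart c k.down).toScheme) k) := by
        rintro _ ⟨y, rfl⟩
        refine hle (show loc y ∈ (PrimeSpectrum.basicOpen b : Set (PrimeSpectrum A')) from ?_)
        exact (PrimeSpectrum.localization_away_comap_range (Localization.Away b) b).subset ⟨y, rfl⟩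
      have h1 : (IsOpenImmersion.lift _ _ hr ≫ (closedPart c k.down ⁻¹ᵁ openPart c k.down).ι) ≫ closedPart c k.down =
          Spec.map (CommRingCat.ofHom (algebraMap A (Localization.Away b))) := by
        rw [Category.assoc]
        change IsOpenImmersion.lift _ _ hr ≫ piece c k.down = _
        rw [← strata_ι, IsOpenImmersion.lift_fac_assoc, Category.assoc, hg, ← Spec.map_comp,
          ← CommRingCat.ofHom_comp, ← IsScalarTower.algebraMap_eq]
      have h2 := (H8Norm.exists_Spec_factor_iff (c k.down) _).1 ⟨_, h1⟩ ha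
      rw [CommRingCat.hom_ofHom, RingHom.mem_ker, IsScalarTower.algebraMap_apply A A',
        IsLocalization.map_eq_zero_iff (Submonoid.powers b)] at h2
      obtain ⟨⟨_, n, rfl⟩, hn⟩ := h2
      exact ⟨b ^ n, fun hm => hb (ht.mem_of_pow_mem n hm), hn⟩
  · intro h
    haveI := mono_strata (N := N) hmono
    have key : ∀ p : PrimeSpectrum A', ∃ k : ULift.{u} (Fin (N + 1)), ∃ b ∉ p.asIdeal,
        ∃ g : Spec (CommRingCat.of (Localization.Away b)) ⟶
          (closedPart c k.down ⁻¹ᵁ openPart c k.down).toScheme,
          g ≫ piece c k.down = Spec.map (CommRingCat.ofHom (algebraMap A' (Localization.Away b))) ≫ t₀ := by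
      intro p
      obtain ⟨k, hk, hout, hkill⟩ := h p.asIdeal p.isPrime
      obtain ⟨x, hx, hxp⟩ : ∃ x ∈ c (k + 1), algebraMap A A' x ∉ p.asIdeal := by
        by_contra! hne
        exact hout (Ideal.map_le_iff_le_comap.2 hne)
      obtain ⟨s, hs⟩ := hfg k
      choose a ha hax using fun y : s => hkill y.1 (hs ▸ Submodule.subset_span y.2)
      let b := algebraMap A A' x * ∏ y : s, a y
      have hb : b ∉ p.asIdeal := fun hm => (p.isPrime.mem_or_mem hm).elim hxp fun hm => by
        obtain ⟨y, -, hy⟩ := (Ideal.IsPrime.prod_mem_iff (hp := p.isPrime)).1 hm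
        exact ha y hy
      have hzero : c k ≤ RingHom.ker (algebraMap A (Localization.Away b)) := by
        rw [← hs, Submodule.span_le]
        intro y hy
        have hab : a ⟨y, hy⟩ ∣ b := (Finset.dvd_prod_of_mem a (Finset.mem_univ _)).mul_left _
        obtain ⟨d, hd⟩ := hab
        show algebraMap A (Localization.Away b) y = 0
        rw [IsScalarTower.algebraMap_apply A A', IsLocalization.map_eq_zero_iff (Submonoid.powers b)]
        refine ⟨⟨b, Submonoid.mem_powers b⟩, ?_⟩
        show b * algebraMap A A' y = 0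
        rw [hd, mul_comm (a ⟨y, hy⟩) d, mul_assoc, hax ⟨y, hy⟩, mul_zero]
      obtain ⟨g, hg⟩ := (H8Norm.exists_Spec_factor_iff (c k)
        (CommRingCat.ofHom (algebraMap A (Localization.Away b)))).2 hzero
      have hr : Set.range g ⊆ Set.range (closedPart c k ⁻¹ᵁ openPart c k).ι := by
        rintro _ ⟨y, rfl⟩
        rw [Scheme.Opens.range_ι]
        show closedPart c k (g y) ∈ openPart c k
        rw [← Scheme.Hom.comp_apply, hg]
        intro hle
        have hyb : algebraMap A' (Localization.Away b) b ∉ y.asIdeal := fun hm =>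
          y.isPrime.ne_top (Ideal.eq_top_of_isUnit_mem _ hm (IsLocalization.Away.algebraMap_isUnit b))
        refine hyb ?_
        rw [show algebraMap A' (Localization.Away b) b = _ from map_mul _ _ _,
          ← IsScalarTower.algebraMap_apply]
        exact Ideal.mul_mem_right _ _ (hle hx)
      refine ⟨⟨⟨k, by omega⟩⟩, b, hb, IsOpenImmersion.lift _ g hr, ?_⟩
      rw [piece, ← Category.assoc, IsOpenImmersion.lift_fac]
      refine hg.trans ?_
      rw [← Spec.map_comp, ← CommRingCat.ofHom_comp, ← IsScalarTower.algebraMap_eq]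
    choose kk b hb g hg using key
    have hspan : Ideal.span (Set.range b) = ⊤ := by
      by_contra hne
      obtain ⟨m, hm, hle⟩ := Ideal.exists_le_maximal _ hne
      exact hb ⟨m, hm.isPrime⟩ (hle (Ideal.subset_span ⟨_, rfl⟩))
    refine H8Norm.exists_factor_of_cover (strata c N) t₀
      (Scheme.affineOpenCoverOfSpanRangeEqTop (R := CommRingCat.of A') b hspan).openCover fun p =>
        ⟨g p ≫ Sigma.ι (fun k : ULift.{u} (Fin (N + 1)) => (closedPart c k.down ⁻¹ᵁ openPart c k.down).toScheme)
          (kk p), ?_⟩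
    exact (Category.assoc _ _ _).trans ((congrArg (g p ≫ ·) (strata_ι (kk p))).trans (hg p))

end Groth.Agent.H8Norm.FdRing
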