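import Groth.Agent.H8Norm.FdRing.Step
import Groth.Agent.H8Norm.FdRing.Strata
import Groth.Agent.H29Fitt.LocFree

/-!
# Flatness at the generic points of the fibres, in terms of Fitting coefficients
-/

set_option autoImplicit false
set_option linter.style.haveILetI false
set_option backward.isDefEq.respectTransparency false
set_option maxHeartbeats 1000000

universe u

open TensorProduct

namespace Groth.Agent.H8Norm.FdRing

open H29Fitt H8Props.Devissage

variable {A B : Type u} [CommRing A] [CommRing B] [Algebra A B]

theorem fittIdeal_mono (M : Type u) [AddCommGroup M] [Module B M] [Module.Finite B M] :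
    Monotone fun k => Fitt.ideal B M k := fun k l hkl => by
  obtain ⟨n, x, hx⟩ := Module.Finite.exists_fin (R := B) (M := M)
  show Fitt.ideal B M k ≤ Fitt.ideal B M l
  rw [ideal_eq x hx, ideal_eq x hx]
  exact J_anti x (by omega)

variable (A B) in
/-- The coefficient ideals of the Fitting ideals, starting from zero. -/
noncomputable def fittCoeff (M : Type u) [AddCommGroup M] [Module B M] : ℕ → Ideal A
  | 0 => ⊥
  | k + 1 => coeffIdeal A (Fitt.ideal B M k)

theorem fittCoeff_mono (M : Type u) [AddCommGroup M] [Module B M] [Module.Finite B M] :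
    Monotone (fittCoeff A B M) := monotone_nat_of_le_succ fun k => by
  cases k with
  | zero => exact bot_le
  | succ k =>
    refine Ideal.span_mono ?_
    rintro a ⟨b, hb, φ, rfl⟩
    exact ⟨b, fittIdeal_mono M (Nat.le_succ k) hb, φ, rfl⟩

theorem fittCoeff_fg [Module.Projective A B] (M : Type u) [AddCommGroup M] [Module B M]
    [Module.FinitePresentation B M] (k : ℕ) : (fittCoeff A B M k).FG := by
  cases k with
  | zero => exact Submodule.fg_bot
  | succ k => exact fg_coeffIdeal (ideal_fg k)

section Criterion

variable [Module.Projective A B] {A' B' : Type u} [CommRing A'] [CommRing B'] [Algebra A A']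
  [Algebra A' B'] [Algebra A B'] [Algebra B B'] [IsScalarTower A A' B'] [IsScalarTower A B B']
  [Algebra.IsPushout A A' B B']

/-- An element dies modulo an extended ideal exactly when its coefficients do. -/
theorem mem_map_iff_forall (x : B) (I : Ideal A') :
    algebraMap B B' x ∈ I.map (algebraMap A' B') ↔ ∀ φ : B →ₗ[A] A, algebraMap A A' (φ x) ∈ I := by
  constructor
  · intro h φ
    let ψ : B' →ₗ[A'] A' := (Algebra.IsPushout.out (R := A) (S := A') (R' := B) (S' := B')).lift
      ((Algebra.linearMap A A').comp φ)
    have h1 : ψ (algebraMap B B' x) = algebraMap A A' (φ x) :=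
      IsBaseChange.lift_eq _ _ x
    rw [← h1]
    generalize algebraMap B B' x = y at h
    induction h using Submodule.span_induction with
    | mem z hz =>
      obtain ⟨a, ha, rfl⟩ := hz
      rw [Algebra.algebraMap_eq_smul_one, map_smul, smul_eq_mul]
      exact Ideal.mul_mem_right _ _ ha
    | zero => rw [map_zero]; exact zero_mem _
    | add a b _ _ ha hb => rw [map_add]; exact add_mem ha hb
    | smul c z hz ihz =>
      clear ihz
      have hcz : c * z ∈ I • (⊤ : Submodule A' B') := by
        rw [Ideal.smul_top_eq_map]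
        exact Ideal.mul_mem_left _ c hz
      rw [smul_eq_mul]
      refine Submodule.smul_induction_on hcz (fun a ha w _ => ?_) (fun _ _ ha hb => ?_)
      · rw [map_smul, smul_eq_mul]; exact Ideal.mul_mem_right _ _ ha
      · rw [map_add]; exact add_mem ha hb
  · intro h
    obtain ⟨s, hs⟩ := exists_dual_basis (A := A) (B := B)
    rw [← hs x, Finsupp.linearCombination_apply, Finsupp.sum, map_sum]
    refine Ideal.sum_mem _ fun i _ => ?_
    rw [Algebra.smul_def, map_mul, ← IsScalarTower.algebraMap_apply A B B',
      IsScalarTower.algebraMap_apply A A' B']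
    exact Ideal.mul_mem_right _ _ (Ideal.mem_map_of_mem _ (h ((Finsupp.lapply i).comp s)))

theorem smul_eq_zero_iff_forall (x : B) (a : A') :
    algebraMap A' B' a * algebraMap B B' x = 0 ↔ ∀ φ : B →ₗ[A] A, a * algebraMap A A' (φ x) = 0 := by
  constructor
  · intro h φ
    let ψ : B' →ₗ[A'] A' := (Algebra.IsPushout.out (R := A) (S := A') (R' := B) (S' := B')).lift
      ((Algebra.linearMap A A').comp φ)
    have h1 : ψ (algebraMap B B' x) = algebraMap A A' (φ x) :=
      IsBaseChange.lift_eq _ _ x
    have h2 := congrArg ψ h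
    rw [← Algebra.smul_def, map_smul, h1, map_zero, smul_eq_mul] at h2
    exact h2
  · intro h
    obtain ⟨s, hs⟩ := exists_dual_basis (A := A) (B := B)
    rw [← hs x, Finsupp.linearCombination_apply, Finsupp.sum, map_sum, Finset.mul_sum]
    refine Finset.sum_eq_zero fun i _ => ?_
    rw [Algebra.smul_def, map_mul, ← IsScalarTower.algebraMap_apply A B B',
      IsScalarTower.algebraMap_apply A A' B', ← mul_assoc, ← map_mul,
      show a * algebraMap A A' (s x i) = 0 from h ((Finsupp.lapply i).comp s), map_zero, zero_mul]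

variable {M M' : Type u} [AddCommGroup M] [Module B M] [Module.FinitePresentation B M]
  [AddCommGroup M'] [Module B' M'] [Module B M'] [IsScalarTower B B' M'] [Module A' M']
  [IsScalarTower A' B' M']

/-- Flatness at the generic point of one fibre, through Fitting coefficients. -/
theorem flatAt_map_iff [Algebra.Smooth A' B'] (hgi : FlatCA.GeomIrredFibres A' B') (φ : M →ₗ[B] M')
    (hφ : IsBaseChange B' φ) {N : ℕ} (x : Fin N → M) (hx : Submodule.span B (Set.range x) = ⊤)
    (t : Ideal A') [t.IsPrime] [(t.map (algebraMap A' B')).IsPrime] :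
    FlatCA.FlatAt A' (t.map (algebraMap A' B')) M' ↔
      ∃ k ≤ N, ¬ (fittCoeff A B M (k + 1)).map (algebraMap A A') ≤ t ∧
        ∀ y ∈ fittCoeff A B M k, ∃ a ∉ t, a * algebraMap A A' y = 0 := by
  classical
  set P := t.map (algebraMap A' B') with hPdef
  haveI : P.LiesOver t := H8Props.Devissage.liesOver_map A' B' t hgi
  have hgi' := H7Flat.DevissageChain.geomIntegralFibres hgi
  haveI : Module.FinitePresentation B' M' := Module.FinitePresentation.of_equiv hφ.equiv
  let L := Localization.AtPrime P
  let ML := LocalizedModule P.primeCompl M'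
  haveI : Module.FinitePresentation L ML :=
    Module.FinitePresentation.of_equiv (IsLocalizedModule.isBaseChange P.primeCompl L
      (LocalizedModule.mkLinearMap P.primeCompl M')).equiv
  have hfit : ∀ j, Fitt.ideal L ML j = ((Fitt.ideal B M j).map (algebraMap B B')).map (algebraMap B' L) := by
    intro j
    rw [ideal_of_isLocalizedModule P.primeCompl (LocalizedModule.mkLinearMap P.primeCompl M') j,
      ← ideal_congr hφ.equiv, ideal_baseChange]
  have hunit : ∀ j, Fitt.ideal L ML j ≠ ⊤ → (fittCoeff A B M (j + 1)).map (algebraMap A A') ≤ t := by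
    intro j hne
    rw [Ideal.map_le_iff_le_comap, fittCoeff, coeffIdeal, Ideal.span_le]
    rintro _ ⟨b, hb, ψ, rfl⟩
    refine (mem_map_iff_forall (B' := B') b t).1 ?_ ψ
    have hle : (Fitt.ideal L ML j) ≤ IsLocalRing.maximalIdeal L := IsLocalRing.le_maximalIdeal hne
    have := hle (hfit j ▸ Ideal.mem_map_of_mem (algebraMap B' L) (Ideal.mem_map_of_mem (algebraMap B B') hb))
    exact (IsLocalization.AtPrime.to_map_mem_maximal_iff L P _).1 this
  have hzero : ∀ j, Fitt.ideal L ML j = ⊥ →
      ∀ y ∈ fittCoeff A B M (j + 1), ∃ a ∉ t, a * algebraMap A A' y = 0 := by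
    intro j h0 y hy
    rw [fittCoeff, coeffIdeal] at hy
    induction hy using Submodule.span_induction with
    | mem y hy =>
      obtain ⟨b, hb, ψ, rfl⟩ := hy
      have h1 : algebraMap B' L (algebraMap B B' b) = 0 := by
        rw [← Ideal.mem_bot, ← h0, hfit]
        exact Ideal.mem_map_of_mem _ (Ideal.mem_map_of_mem _ hb)
      obtain ⟨⟨v, hv⟩, hvb⟩ := (IsLocalization.map_eq_zero_iff P.primeCompl L _).1 h1
      obtain ⟨_, ⟨a, ha, rfl⟩, hab⟩ := H7Flat.FiberBasis.exists_smul_eq_zero hgi'
        (Algebra.algebraMapSubmonoid B' t.primeCompl) (Submonoid.powers v)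
        (fun p hp hpP _ hd => by
          refine Set.disjoint_left.mpr ?_
          rintro _ ⟨n, rfl⟩ hn
          refine hv (Ideal.IsPrime.mem_of_pow_mem ‹_› n (Ideal.map_mono (fun z hz => ?_) hn))
          by_contra hzt
          exact Set.disjoint_left.mp hd ⟨z, hzt, rfl⟩ (Ideal.mem_map_of_mem _ hz))
        ((fun _ : Fin 1 => algebraMap B B' b) ⊗ₜ[A'] (1 : A')) v (Submonoid.mem_powers v)
        (by
          rw [TensorProduct.smul_tmul', show (v • fun _ : Fin 1 => algebraMap B B' b) = 0 from
            funext fun _ => hvb, TensorProduct.zero_tmul])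
      refine ⟨a, ha, (smul_eq_zero_iff_forall (B' := B') b a).1 ?_ ψ⟩
      have h2 := congrArg (TensorProduct.rid A' (Fin 1 → B')) hab
      rw [map_zero, TensorProduct.smul_tmul', TensorProduct.rid_tmul, one_smul] at h2
      exact congrFun h2 0
    | zero => exact ⟨1, fun h => ‹t.IsPrime›.ne_top ((Ideal.eq_top_iff_one t).2 h), by rw [map_zero, mul_zero]⟩
    | add y z _ _ hy hz =>
      obtain ⟨a, ha, hay⟩ := hy
      obtain ⟨a', ha', haz⟩ := hz
      exact ⟨a * a', fun h => (Ideal.IsPrime.mem_or_mem ‹_› h).elim ha ha', by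
        rw [map_add, mul_add, mul_right_comm, hay, zero_mul, zero_add, mul_assoc, haz, mul_zero]⟩
    | smul c y _ hy =>
      obtain ⟨a, ha, hay⟩ := hy
      exact ⟨a, ha, by rw [smul_eq_mul, map_mul, mul_left_comm, hay, mul_zero]⟩
  constructor
  · intro hflat
    haveI : Module.Flat A' ML := hflat
    haveI : Module.Free L ML := H8Props.FunDescent.free_of_flat_of_map_eq_maximalIdeal t (by
      rw [IsScalarTower.algebraMap_eq A' B' L, ← Ideal.map_map, ← hPdef,
        Localization.AtPrime.map_eq_maximalIdeal])
    let b := Module.finBasis L ML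
    let ρ := Module.finrank L ML
    have hbot : ∀ j, j < ρ → Fitt.ideal L ML j = ⊥ := fun j hj =>
      ideal_eq_bot_of_independent b b.span_eq (fun c hc => funext fun i =>
        Fintype.linearIndependent_iff.1 b.linearIndependent c hc i) hj
    have hρN : ρ ≤ N := by
      by_contra hlt
      have h1 := hbot N (by omega)
      rw [hfit, ideal_eq_top_of_span x hx le_rfl, Ideal.map_top, Ideal.map_top] at h1
      exact bot_ne_top h1.symm
    refine ⟨ρ, hρN, fun hle => ?_, ?_⟩
    · have htop : Fitt.ideal L ML ρ = ⊤ := ideal_eq_top_of_span b b.span_eq le_rfl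
      rw [hfit] at htop
      have hmem : (Fitt.ideal B M ρ).map (algebraMap B B') ≤ P := by
        rw [Ideal.map_le_iff_le_comap]
        intro y hy
        refine (mem_map_iff_forall (B' := B') y t).2 fun ψ => hle (Ideal.mem_map_of_mem _ ?_)
        exact Ideal.subset_span ⟨y, hy, ψ, rfl⟩
      have := (Ideal.map_mono hmem).trans_eq (Localization.AtPrime.map_eq_maximalIdeal)
      rw [htop, top_le_iff] at this
      exact (IsLocalRing.maximalIdeal.isMaximal L).ne_top this
    · cases h : ρ with
      | zero => intro y hy; exact ⟨1, fun h => ‹t.IsPrime›.ne_top ((Ideal.eq_top_iff_one t).2 h), by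
          rw [show fittCoeff A B M 0 = ⊥ from rfl, Ideal.mem_bot] at hy; rw [hy, map_zero, mul_zero]⟩
      | succ j => exact hzero j (hbot j (by omega))
  · rintro ⟨k, -, hout, hkill⟩
    have htop : Fitt.ideal L ML k = ⊤ := by
      by_contra hne
      exact hout (hunit k hne)
    have hbot : ∀ j, j < k → Fitt.ideal L ML j = ⊥ := by
      intro j hj
      rw [hfit, eq_bot_iff, Ideal.map_le_iff_le_comap, Ideal.map_le_iff_le_comap]
      intro y hy
      show algebraMap B' L (algebraMap B B' y) = 0
      obtain ⟨s, hs⟩ := exists_dual_basis (A := A) (B := B)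
      choose a ha hay using fun i => hkill _ (fittCoeff_mono M (show j + 1 ≤ k from hj)
        (Ideal.subset_span ⟨y, hy, (Finsupp.lapply i).comp s, rfl⟩))
      let a₀ := ∏ i ∈ (s y).support, a i
      refine (IsLocalization.map_eq_zero_iff P.primeCompl L _).2 ⟨⟨algebraMap A' B' a₀, fun hm => ?_⟩, ?_⟩
      · have : a₀ ∈ t := by
          rw [(Ideal.LiesOver.over (p := t) (P := P))]
          exact hm
        obtain ⟨i, -, hi⟩ := Ideal.IsPrime.prod_mem_iff.1 this
        exact ha i hi
      · show algebraMap A' B' a₀ * algebraMap B B' y = 0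
        rw [← hs y, Finsupp.linearCombination_apply, Finsupp.sum, map_sum, Finset.mul_sum]
        refine Finset.sum_eq_zero fun i hi => ?_
        obtain ⟨d, hd⟩ := Finset.dvd_prod_of_mem a hi
        rw [Algebra.smul_def, map_mul, ← IsScalarTower.algebraMap_apply A B B',
          IsScalarTower.algebraMap_apply A A' B', ← mul_assoc, ← map_mul,
          show a₀ = a i * d from hd, mul_right_comm,
          show a i * algebraMap A A' (s y i) = 0 from hay i, zero_mul, map_zero, zero_mul]
    obtain ⟨f, hf, m, hm⟩ := exists_spansUpTo_powers (R := L) (M := ML) (k := k)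
      (p := IsLocalRing.maximalIdeal L) (by rw [htop]; exact fun h =>
        (IsLocalRing.maximalIdeal.isMaximal L).ne_top (top_le_iff.1 h))
    have hspan : Submodule.span L (Set.range m) = ⊤ := Submodule.eq_top_iff'.2 fun v => by
      obtain ⟨_, ⟨i, rfl⟩, hi⟩ := hm v
      have hu : IsUnit (f ^ i) := (IsLocalRing.notMem_maximalIdeal.1 hf).pow i
      exact (Submodule.smul_mem_iff_of_isUnit _ hu).1 hi
    have hli : LinearIndependent L m := Fintype.linearIndependent_iff.2 fun c hc i =>
      congrFun (eq_zero_of_ideal_eq_bot m hspan hbot c hc) i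
    haveI : Module.Free L ML := Module.Free.of_basis (Module.Basis.mk hli hspan.ge)
    haveI : Module.Flat A' L := Module.Flat.trans A' B' L
    exact Module.Flat.trans A' L ML

/-- Flatness in dimensions at least the relative dimension is the strata condition. -/
theorem dimFlat_iff_strataCond (e : ℕ) (hsm : FlatCA.SmoothRelDim e A' B') [Algebra.Smooth A' B']
    (hgi : FlatCA.GeomIrredFibres A' B') (φ : M →ₗ[B] M') (hφ : IsBaseChange B' φ) {N : ℕ}
    (x : Fin N → M) (hx : Submodule.span B (Set.range x) = ⊤) :
    DimFlat e A' B' M' ↔ StrataCond (A := CommRingCat.of A) (fittCoeff A B M) N A' := by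
  constructor
  · intro h t ht
    haveI := H8Props.Devissage.isPrime_map A' B' t hgi
    exact (flatAt_map_iff hgi φ hφ x hx t).1 (h _ (le_ptr_map e hsm hgi e le_rfl t))
  · intro h Q hQ hn
    haveI : (Q.under A').IsPrime := Ideal.IsPrime.under A' Q
    haveI := H8Props.Devissage.isPrime_map A' B' (Q.under A') hgi
    have hQ' := (le_ptr_iff e hsm hgi Q).1 hn
    have := (flatAt_map_iff hgi φ hφ x hx (Q.under A')).2 (h _ inferInstance)
    convert this using 2

end Criterion

end Groth.Agent.H8Norm.FdRing
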