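import Groth.Agent.H8Norm.FdRing.Generic
import Groth.Agent.H7Flat.DevissageFP

/-!
# `F_d` is representable near a prime with a complete dévissage
-/

set_option autoImplicit false
set_option linter.style.haveILetI false
set_option backward.isDefEq.respectTransparency false
set_option maxHeartbeats 1000000

universe u

open TensorProduct CategoryTheory AlgebraicGeometry

attribute [local instance] Algebra.TensorProduct.rightAlgebra

namespace Groth.Agent.H8Norm.FdRing

open H7Flat H8Props.Devissage

section Model

variable {A B C A' C' : Type u} [CommRing A] [CommRing B] [CommRing C] [CommRing A'] [CommRing C']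
  [Algebra A B] [Algebra A C] [Algebra B C] [IsScalarTower A B C] [Algebra A A'] [Algebra A' C']
  [Algebra A C'] [Algebra C C'] [IsScalarTower A A' C'] [IsScalarTower A C C']

/-- The structure map from the base change of `B` to a base change of `C`. -/
noncomputable def toModel : A' ⊗[A] B →ₐ[A'] C' :=
  Algebra.TensorProduct.lift (Algebra.ofId A' C')
    ((IsScalarTower.toAlgHom A C C').comp (IsScalarTower.toAlgHom A B C)) fun _ _ => Commute.all _ _

theorem toModel_right (b : B) :
    toModel (A := A) (B := B) (C := C) (A' := A') (C' := C') (1 ⊗ₜ[A] b) = algebraMap C C' (algebraMap B C b) := by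
  simp [toModel]

end Model

/-- Flatness in high dimensions is vacuous above the relative dimension. -/
theorem dimFlatOn_of_lt {A B : Type u} [CommRing A] [CommRing B] [Algebra A B] {e n : ℕ}
    (hsm : FlatCA.SmoothRelDim e A B) (hgi : FlatCA.GeomIrredFibres A B) (hn : e < n) (g : A)
    (M : Type u) [AddCommGroup M] [Module B M] [Module A M] [IsScalarTower A B M] :
    DimFlatOn n A B g M := fun Q _ _ hle =>
  absurd (hle.trans (ptr_le e hsm hgi Q)) (not_le.2 (Nat.cast_lt.2 hn))

/-- A zero module is flat everywhere. -/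
theorem dimFlatOn_of_subsingleton {A B : Type u} [CommRing A] [CommRing B] [Algebra A B] (n : ℕ) (g : A)
    (M : Type u) [AddCommGroup M] [Module B M] [Module A M] [IsScalarTower A B M] [Subsingleton M] :
    DimFlatOn n A B g M := fun Q _ _ _ => by
  haveI : Subsingleton (LocalizedModule Q.primeCompl M) := by
    refine subsingleton_of_forall_eq 0 fun z => ?_
    induction z using LocalizedModule.induction_on with
    | _ m s => rw [Subsingleton.elim m 0, LocalizedModule.zero_mk]
  exact Module.Flat.of_free

variable {A B : Type u} [CommRing A] [CommRing B] [Algebra A B] [Algebra.FinitePresentation A B]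
  (N : Type u) [AddCommGroup N] [Module B N] [Module A N] [IsScalarTower A B N]
  [Module.FinitePresentation B N] (s : Ideal A) [s.IsPrime] (D : FlatCA.CompleteDevissage A B N s)

/-- Representability over a basic open of the condition on one module of the dévissage. -/
def RepAt (d i : ℕ) (g : A) : Prop :=
  ∃ (Z : Scheme.{u}) (ι : Z ⟶ Spec (CommRingCat.of A)),
    Mono ι ∧ LocallyOfFinitePresentation ι ∧ QuasiCompact ι ∧ QuasiSeparated ι ∧
    ∀ (A' C' M' : Type u) [CommRing A'] [CommRing C'] [Algebra A A'] [Algebra A' C'] [Algebra A C']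
      [Algebra (D.A i) C'] [IsScalarTower A A' C'] [IsScalarTower A (D.A i) C']
      [Algebra.IsPushout A A' (D.A i) C'] [AddCommGroup M'] [Module C' M'] [Module (D.A i) M']
      [IsScalarTower (D.A i) C' M'] [Module A' M'] [IsScalarTower A' C' M']
      (φ : D.M i →ₗ[D.A i] M'), IsBaseChange C' φ → IsUnit (algebraMap A A' g) →
      (DimFlat d A' C' M' ↔
        ∃ k : Spec (CommRingCat.of A') ⟶ Z, k ≫ ι = Spec.map (CommRingCat.ofHom (algebraMap A A')))

theorem tower_AM (i : ℕ) : IsScalarTower A (D.A i) (D.M i) :=
  .of_algebraMap_smul fun x y => by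
    rw [IsScalarTower.algebraMap_apply A (D.B i) (D.A i), algebraMap_smul, algebraMap_smul]

theorem tower_BM' (i : ℕ) : IsScalarTower A (D.B i) (D.M (i + 1)) :=
  haveI := tower_AM N s D (i + 1)
  .of_algebraMap_smul fun x y => by
    rw [← algebraMap_smul (D.A (i + 1)) (algebraMap A (D.B i) x) y, ← IsScalarTower.algebraMap_apply,
      algebraMap_smul]

theorem repAt_whole (d i : ℕ) (g : A)
    (h : ∀ (A' C' M' : Type u) [CommRing A'] [CommRing C'] [Algebra A A'] [Algebra A' C'] [Algebra A C']
      [Algebra (D.A i) C'] [IsScalarTower A A' C'] [IsScalarTower A (D.A i) C']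
      [Algebra.IsPushout A A' (D.A i) C'] [AddCommGroup M'] [Module C' M'] [Module (D.A i) M']
      [IsScalarTower (D.A i) C' M'] [Module A' M'] [IsScalarTower A' C' M']
      (φ : D.M i →ₗ[D.A i] M'), IsBaseChange C' φ → IsUnit (algebraMap A A' g) → DimFlat d A' C' M') :
    RepAt N s D d i g :=
  ⟨Spec (CommRingCat.of A), 𝟙 _, inferInstance, inferInstance, inferInstance, inferInstance,
    fun A' C' M' _ _ _ _ _ _ _ _ _ _ _ _ _ _ _ φ hφ hg =>
      iff_of_true (h A' C' M' φ hφ hg) ⟨_, Category.comp_id _⟩⟩

variable (hdim : ∀ i, i < D.n → ∃ e : ℕ, FlatCA.SmoothRelDim e A (D.B i)) (d : ℕ)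

include hdim in
set_option maxHeartbeats 4000000 in
theorem exists_repAt : ∀ (k i : ℕ), i + k + 1 = D.n → Module.FinitePresentation (D.B i) (D.M i) →
    ∀ g₀ : A, g₀ ∉ s → DimFlatOn (d + 1) A (D.B i) g₀ (D.M i) →
      ∃ g : A, g ∉ s ∧ g₀ ∣ g ∧ RepAt N s D d i g := by
  intro k
  induction k using Nat.strong_induction_on with
  | _ k IH =>
  intro i hik hfp g₀ hg₀ hflat
  classical
  have hi : i < D.n := by omega
  haveI := hfp
  haveI := D.smooth i hi
  haveI := D.finiteBA i hi
  haveI := tower_AM N s D i
  obtain ⟨e, he⟩ := hdim i hi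
  have hgi := D.geomIrred i hi
  haveI : Module.Projective A (D.B i) := DevissageChain.projective hgi
  let Bi := D.B i
  let Ci := D.A i
  -- the facts about any model
  rcases lt_trichotomy e d with hed | hed | hed
  · refine ⟨g₀, hg₀, dvd_rfl, repAt_whole N s D d i g₀ fun A' C' M' _ _ _ _ _ _ _ _ _ _ _ _ _ _ _ φ hφ hu => ?_⟩
    let T := A' ⊗[A] Bi
    letI : Algebra T C' := (toModel (A := A) (B := Bi) (C := Ci) (A' := A') (C' := C')).toRingHom.toAlgebra
    haveI : IsScalarTower A' T C' := .of_algebraMap_eq fun a =>
      ((toModel (A := A) (B := Bi) (C := Ci) (A' := A') (C' := C')).commutes a).symm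
    letI : Algebra Bi C' := ((algebraMap Ci C').comp (algebraMap Bi Ci)).toAlgebra
    haveI : IsScalarTower Bi Ci C' := .of_algebraMap_eq fun _ => rfl
    haveI : IsScalarTower Bi T C' := .of_algebraMap_eq fun b =>
      (toModel_right (A := A) (B := Bi) (C := Ci) (A' := A') (C' := C') b).symm
    haveI := isPushout_middle A Bi Ci A' T C'
    haveI : Module.Finite T C' := Module.Finite.equiv (Algebra.IsPushout.equiv Bi T Ci C').toLinearEquiv
    letI : Module T M' := Module.compHom M' (algebraMap T C')
    haveI : IsScalarTower T C' M' := .of_algebraMap_smul fun _ _ => rfl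
    haveI : IsScalarTower A' T M' := .of_algebraMap_smul fun a m => by
      rw [← algebraMap_smul C' (algebraMap A' T a), ← IsScalarTower.algebraMap_apply, algebraMap_smul]
    rw [dimFlat_iff_dimFlatOn d hu, ← dimFlatOn_transfer (B := T) (C := C') d]
    exact dimFlatOn_of_lt (smoothRelDim_baseChange A A' Bi T e he) (geomIrredFibres_baseChange A A' Bi T hgi) hed _ _
  · subst hed
    obtain ⟨Ng, x, hx⟩ := Module.Finite.exists_fin (R := Bi) (M := D.M i)
    have hmono := fittCoeff_mono (A := A) (B := Bi) (D.M i)
    have hfg := fittCoeff_fg (A := A) (B := Bi) (D.M i)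
    haveI := mono_strata (A := CommRingCat.of A) (c := fittCoeff A Bi (D.M i)) (N := Ng) hmono
    refine ⟨g₀, hg₀, dvd_rfl, _, strata (A := CommRingCat.of A) (fittCoeff A Bi (D.M i)) Ng, inferInstance,
      locallyOfFinitePresentation_strata hfg, quasiCompact_strata hfg, inferInstance,
      fun A' C' M' _ _ _ _ _ _ _ _ _ _ _ _ _ _ _ φ hφ hu => ?_⟩
    let T := A' ⊗[A] Bi
    letI : Algebra T C' := (toModel (A := A) (B := Bi) (C := Ci) (A' := A') (C' := C')).toRingHom.toAlgebra
    haveI : IsScalarTower A' T C' := .of_algebraMap_eq fun a =>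
      ((toModel (A := A) (B := Bi) (C := Ci) (A' := A') (C' := C')).commutes a).symm
    letI : Algebra Bi C' := ((algebraMap Ci C').comp (algebraMap Bi Ci)).toAlgebra
    haveI : IsScalarTower Bi Ci C' := .of_algebraMap_eq fun _ => rfl
    haveI : IsScalarTower Bi T C' := .of_algebraMap_eq fun b =>
      (toModel_right (A := A) (B := Bi) (C := Ci) (A' := A') (C' := C') b).symm
    haveI := isPushout_middle A Bi Ci A' T C'
    haveI : Module.Finite T C' := Module.Finite.equiv (Algebra.IsPushout.equiv Bi T Ci C').toLinearEquiv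
    letI : Module T M' := Module.compHom M' (algebraMap T C')
    haveI : IsScalarTower T C' M' := .of_algebraMap_smul fun _ _ => rfl
    haveI : IsScalarTower A' T M' := .of_algebraMap_smul fun a m => by
      rw [← algebraMap_smul C' (algebraMap A' T a), ← IsScalarTower.algebraMap_apply, algebraMap_smul]
    letI : Module Bi M' := Module.compHom M' (algebraMap Bi C')
    haveI : IsScalarTower Bi Ci M' := .of_algebraMap_smul fun b m => by
      rw [← algebraMap_smul C' (algebraMap Bi Ci b) m, ← IsScalarTower.algebraMap_apply]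
      rfl
    haveI : IsScalarTower Bi T M' := .of_algebraMap_smul fun b m => by
      rw [← algebraMap_smul C' (algebraMap Bi T b) m, ← IsScalarTower.algebraMap_apply]
      rfl
    have hφT : IsBaseChange T (φ.restrictScalars Bi) := isBaseChange_restrict hφ
    rw [dimFlat_iff_dimFlatOn e hu, ← dimFlatOn_transfer (B := T) (C := C') e,
      ← dimFlat_iff_dimFlatOn e hu,
      dimFlat_iff_strataCond (A := A) (B := Bi) e (smoothRelDim_baseChange A A' Bi T e he)
        (geomIrredFibres_baseChange A A' Bi T hgi) (φ.restrictScalars Bi) hφT x hx]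
    exact (exists_factor_iff (A := CommRingCat.of A) hmono hfg A').symm
  · haveI := D.hp i
    have hP : g₀ ∉ (s.map (algebraMap A Bi)).under A := by
      rwa [← (H8Props.Devissage.liesOver_map A Bi s hgi).over]
    obtain ⟨h, hh, hk⟩ := exists_kills hgi s (D.α i) (D.fibreIso i hi)
      (hflat _ hP (le_ptr_map e he hgi (d + 1) hed s))
    have hg₁ : g₀ * h ∉ s := fun hm => (Ideal.IsPrime.mem_or_mem ‹_› hm).elim hg₀ hh
    by_cases hlast : i + 1 < D.n
    · haveI := tower_BM' N s D i
      haveI := tower_AM N s D (i + 1)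
      haveI := D.smooth (i + 1) hlast
      haveI := D.finiteBA (i + 1) hlast
      haveI := D.fpBA' i hlast
      haveI := D.finiteM (i + 1) hlast
      let Cn := D.A (i + 1)
      haveI : Module.Finite Bi Cn :=
        Module.Finite.of_surjective (Algebra.linearMap Bi Cn) (D.surjBA' i hlast)
      have hfp' : Module.FinitePresentation (D.B (i + 1)) (D.M (i + 1)) := by
        haveI : Module.FinitePresentation Bi (D.M i ⧸ LinearMap.range (D.α i)) :=
          Module.finitePresentation_of_surjective (LinearMap.range (D.α i)).mkQ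
            (LinearMap.range (D.α i)).mkQ_surjective
            (by rw [Submodule.ker_mkQ, LinearMap.range_eq_map]; exact Module.Finite.fg_top.map (D.α i))
        haveI : Module.FinitePresentation Bi (D.M (i + 1)) :=
          Module.FinitePresentation.of_equiv (D.isoCoker i hlast)
        haveI : Module.FinitePresentation Cn (D.M (i + 1)) := DevissageChain.fp_of_restrictScalars (D := Bi)
        haveI : Algebra.FinitePresentation A Cn := Algebra.FinitePresentation.trans A Bi Cn
        haveI : Algebra.FinitePresentation (D.B (i + 1)) Cn :=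
          Algebra.FinitePresentation.of_restrict_scalars_finitePresentation A (D.B (i + 1)) Cn
        haveI : Module.FinitePresentation (D.B (i + 1)) Cn :=
          Module.FinitePresentation.of_finite_of_finitePresentation (D.B (i + 1)) Cn
        exact Module.FinitePresentation.trans (D.B (i + 1)) (D.M (i + 1)) Cn
      have hflat' : DimFlatOn (d + 1) A (D.B (i + 1)) (g₀ * h) (D.M (i + 1)) := by
        rw [dimFlatOn_transfer (C := Cn), ← dimFlatOn_transfer (B := Bi), ← dimFlatOn_congr (D.isoCoker i hlast)]
        refine dimFlatOn_coker (dvd_mul_left h g₀) hk fun Q _ hQ hn => hflat Q (fun hm => hQ ?_) hn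
        exact Ideal.mul_mem_right _ _ hm
      obtain ⟨g, hg, hdvd, Z, ι, h1, h2, h3, h4, hZ⟩ :=
        IH (k - 1) (by omega) (i + 1) (by omega) hfp' (g₀ * h) hg₁ hflat'
      refine ⟨g, hg, (dvd_mul_right g₀ h).trans hdvd, Z, ι, h1, h2, h3, h4,
        fun A' C' M' _ _ _ _ _ _ _ _ _ _ _ _ _ _ _ φ hφ hu => ?_⟩
      have huh : IsUnit (algebraMap A A' h) :=
        isUnit_of_dvd_unit (map_dvd _ ((dvd_mul_left h g₀).trans hdvd)) hu
      let T := A' ⊗[A] Bi
      letI : Algebra T C' := (toModel (A := A) (B := Bi) (C := Ci) (A' := A') (C' := C')).toRingHom.toAlgebra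
      haveI : IsScalarTower A' T C' := .of_algebraMap_eq fun a =>
        ((toModel (A := A) (B := Bi) (C := Ci) (A' := A') (C' := C')).commutes a).symm
      letI : Algebra Bi C' := ((algebraMap Ci C').comp (algebraMap Bi Ci)).toAlgebra
      haveI : IsScalarTower Bi Ci C' := .of_algebraMap_eq fun _ => rfl
      haveI : IsScalarTower Bi T C' := .of_algebraMap_eq fun b =>
        (toModel_right (A := A) (B := Bi) (C := Ci) (A' := A') (C' := C') b).symm
      haveI := isPushout_middle A Bi Ci A' T C'
      haveI : Module.Finite T C' := Module.Finite.equiv (Algebra.IsPushout.equiv Bi T Ci C').toLinearEquiv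
      letI : Module T M' := Module.compHom M' (algebraMap T C')
      haveI : IsScalarTower T C' M' := .of_algebraMap_smul fun _ _ => rfl
      haveI : IsScalarTower A' T M' := .of_algebraMap_smul fun a m => by
        rw [← algebraMap_smul C' (algebraMap A' T a), ← IsScalarTower.algebraMap_apply, algebraMap_smul]
      letI : Module Bi M' := Module.compHom M' (algebraMap Bi C')
      haveI : IsScalarTower Bi Ci M' := .of_algebraMap_smul fun b m => by
        rw [← algebraMap_smul C' (algebraMap Bi Ci b) m, ← IsScalarTower.algebraMap_apply]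
        rfl
      haveI : IsScalarTower Bi T M' := .of_algebraMap_smul fun b m => by
        rw [← algebraMap_smul C' (algebraMap Bi T b) m, ← IsScalarTower.algebraMap_apply]
        rfl
      letI : Module A M' := Module.compHom M' (algebraMap A A')
      haveI : IsScalarTower A A' M' := .of_algebraMap_smul fun _ _ => rfl
      haveI : IsScalarTower A Bi M' := .of_algebraMap_smul fun a m => by
        rw [← algebraMap_smul T (algebraMap A Bi a) m, ← IsScalarTower.algebraMap_apply,
          IsScalarTower.algebraMap_apply A A' T, algebraMap_smul]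
        rfl
      have hφT : IsBaseChange T (φ.restrictScalars Bi) := isBaseChange_restrict hφ
      -- the next model
      let Cn' := A' ⊗[A] Cn
      letI : Algebra T Cn' := (toModel (A := A) (B := Bi) (C := Cn) (A' := A') (C' := Cn')).toRingHom.toAlgebra
      haveI : IsScalarTower A' T Cn' := .of_algebraMap_eq fun a =>
        ((toModel (A := A) (B := Bi) (C := Cn) (A' := A') (C' := Cn')).commutes a).symm
      letI : Algebra Bi Cn' := ((algebraMap Cn Cn').comp (algebraMap Bi Cn)).toAlgebra
      haveI : IsScalarTower Bi Cn Cn' := .of_algebraMap_eq fun _ => rfl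
      haveI : IsScalarTower Bi T Cn' := .of_algebraMap_eq fun b =>
        (toModel_right (A := A) (B := Bi) (C := Cn) (A' := A') (C' := Cn') b).symm
      haveI := isPushout_middle A Bi Cn A' T Cn'
      haveI : Module.Finite T Cn' := Module.Finite.equiv (Algebra.IsPushout.equiv Bi T Cn Cn').toLinearEquiv
      let Mn' := Cn' ⊗[Cn] D.M (i + 1)
      letI : Module T Mn' := Module.compHom Mn' (algebraMap T Cn')
      haveI : IsScalarTower T Cn' Mn' := .of_algebraMap_smul fun _ _ => rfl
      haveI : IsScalarTower A' T Mn' := .of_algebraMap_smul fun a m => by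
        rw [← algebraMap_smul Cn' (algebraMap A' T a), ← IsScalarTower.algebraMap_apply, algebraMap_smul]
      letI : Module Bi Mn' := Module.compHom Mn' (algebraMap Bi Cn')
      haveI : IsScalarTower Bi Cn Mn' := .of_algebraMap_smul fun b m => by
        rw [← algebraMap_smul Cn' (algebraMap Bi Cn b) m, ← IsScalarTower.algebraMap_apply]
        rfl
      haveI : IsScalarTower Bi T Mn' := .of_algebraMap_smul fun b m => by
        rw [← algebraMap_smul Cn' (algebraMap Bi T b) m, ← IsScalarTower.algebraMap_apply]
        rfl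
      let ψ : D.M (i + 1) →ₗ[Cn] Mn' := TensorProduct.mk Cn Cn' (D.M (i + 1)) 1
      have hψ : IsBaseChange Cn' ψ := TensorProduct.isBaseChange _ _ _
      have hψT : IsBaseChange T (ψ.restrictScalars Bi) := isBaseChange_restrict hψ
      haveI : Algebra.Smooth A' T := inferInstance
      obtain ⟨ec⟩ := nonempty_coker_equiv hφT hψT (LinearMap.range (D.α i)) (D.isoCoker i hlast) _
        (range_baseChangeFree (B' := T) (g := φ.restrictScalars Bi) (D.r i) (D.α i))
      rw [dimFlat_iff_dimFlatOn d hu, ← dimFlatOn_transfer (B := T) (C := C') d,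
        dimFlat_step d _ (D.α i) (φ.restrictScalars Bi) hφT h huh hk, dimFlatOn_congr ec,
        dimFlatOn_transfer (C := Cn') d, ← dimFlat_iff_dimFlatOn d hu]
      exact hZ A' Cn' Mn' ψ hψ hu
    · refine ⟨g₀ * h, hg₁, dvd_mul_right g₀ h,
        repAt_whole N s D d i _ fun A' C' M' _ _ _ _ _ _ _ _ _ _ _ _ _ _ _ φ hφ hu => ?_⟩
      have huh : IsUnit (algebraMap A A' h) := isUnit_of_dvd_unit (map_dvd _ (dvd_mul_left h g₀)) hu
      let T := A' ⊗[A] Bi
      letI : Algebra T C' := (toModel (A := A) (B := Bi) (C := Ci) (A' := A') (C' := C')).toRingHom.toAlgebra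
      haveI : IsScalarTower A' T C' := .of_algebraMap_eq fun a =>
        ((toModel (A := A) (B := Bi) (C := Ci) (A' := A') (C' := C')).commutes a).symm
      letI : Algebra Bi C' := ((algebraMap Ci C').comp (algebraMap Bi Ci)).toAlgebra
      haveI : IsScalarTower Bi Ci C' := .of_algebraMap_eq fun _ => rfl
      haveI : IsScalarTower Bi T C' := .of_algebraMap_eq fun b =>
        (toModel_right (A := A) (B := Bi) (C := Ci) (A' := A') (C' := C') b).symm
      haveI := isPushout_middle A Bi Ci A' T C'
      haveI : Module.Finite T C' := Module.Finite.equiv (Algebra.IsPushout.equiv Bi T Ci C').toLinearEquiv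
      letI : Module T M' := Module.compHom M' (algebraMap T C')
      haveI : IsScalarTower T C' M' := .of_algebraMap_smul fun _ _ => rfl
      haveI : IsScalarTower A' T M' := .of_algebraMap_smul fun a m => by
        rw [← algebraMap_smul C' (algebraMap A' T a), ← IsScalarTower.algebraMap_apply, algebraMap_smul]
      letI : Module Bi M' := Module.compHom M' (algebraMap Bi C')
      haveI : IsScalarTower Bi Ci M' := .of_algebraMap_smul fun b m => by
        rw [← algebraMap_smul C' (algebraMap Bi Ci b) m, ← IsScalarTower.algebraMap_apply]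
        rfl
      haveI : IsScalarTower Bi T M' := .of_algebraMap_smul fun b m => by
        rw [← algebraMap_smul C' (algebraMap Bi T b) m, ← IsScalarTower.algebraMap_apply]
        rfl
      letI : Module A M' := Module.compHom M' (algebraMap A A')
      haveI : IsScalarTower A A' M' := .of_algebraMap_smul fun _ _ => rfl
      haveI : IsScalarTower A Bi M' := .of_algebraMap_smul fun a m => by
        rw [← algebraMap_smul T (algebraMap A Bi a) m, ← IsScalarTower.algebraMap_apply,
          IsScalarTower.algebraMap_apply A A' T, algebraMap_smul]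
        rfl
      have hφT : IsBaseChange T (φ.restrictScalars Bi) := isBaseChange_restrict hφ
      have hsur : Function.Surjective (D.α i) := by
        rw [show i = D.n - 1 by omega]; exact D.cokerLast
      haveI : Algebra.Smooth A' T := inferInstance
      haveI : Subsingleton (M' ⧸ LinearMap.range (baseChangeFree (D.r i) (D.α i) (φ.restrictScalars Bi) (B' := T))) :=
        Submodule.Quotient.subsingleton_iff.2 (LinearMap.range_eq_top.2
          (surjective_baseChangeFree (D.r i) (D.α i) hφT hsur))
      rw [dimFlat_iff_dimFlatOn d hu, ← dimFlatOn_transfer (B := T) (C := C') d,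
        dimFlat_step d _ (D.α i) (φ.restrictScalars Bi) hφT h huh hk]
      exact dimFlatOn_of_subsingleton d _ _

include hdim in
set_option maxHeartbeats 4000000 in
/-- `F_d` is representable over a neighbourhood of the prime. -/
theorem exists_representing (hflat : FlatCA.FlatInDimGE (d + 1) A B N) :
    ∃ g : A, g ∉ s ∧ ∃ (Z : Scheme.{u}) (i : Z ⟶ Spec (CommRingCat.of A)),
      Mono i ∧ LocallyOfFinitePresentation i ∧ QuasiCompact i ∧ QuasiSeparated i ∧
      ∀ (A' B' N' : Type u) [CommRing A'] [CommRing B'] [Algebra A A'] [Algebra B B'] [Algebra A' B'] [Algebra A B']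
        [IsScalarTower A B B'] [IsScalarTower A A' B'] [Algebra.IsPushout A B A' B']
        [AddCommGroup N'] [Module B' N'] [Module B N'] [IsScalarTower B B' N'] [Module A' N'] [IsScalarTower A' B' N']
        (φ : N →ₗ[B] N'), IsBaseChange B' φ → IsUnit (algebraMap A A' g) →
        (FlatCA.FlatInDimGE d A' B' N' ↔
          ∃ k : Spec (CommRingCat.of A') ⟶ Z, k ≫ i = Spec.map (CommRingCat.ofHom (algebraMap A A'))) := by
  classical
  have h0 : 0 < D.n := D.pos
  haveI := D.fpSA
  haveI := D.finiteM 0 h0
  haveI := D.finiteBA 0 h0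
  haveI := D.smooth 0 h0
  haveI := tower_AM N s D 0
  haveI : IsScalarTower A B (D.M 0) := .of_algebraMap_smul fun x y => by
    rw [← algebraMap_smul (D.A 0) (algebraMap A B x) y, ← IsScalarTower.algebraMap_apply, algebraMap_smul]
  haveI : Module.Finite B (D.A 0) := Module.Finite.of_surjective (Algebra.linearMap B (D.A 0)) D.surjSA
  have hfp : Module.FinitePresentation (D.B 0) (D.M 0) := by
    haveI : Module.FinitePresentation B (D.M 0) := Module.FinitePresentation.of_equiv D.isoN
    haveI : Module.FinitePresentation (D.A 0) (D.M 0) := DevissageChain.fp_of_restrictScalars (D := B)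
    haveI : Algebra.FinitePresentation A (D.A 0) := Algebra.FinitePresentation.trans A B (D.A 0)
    haveI : Algebra.FinitePresentation (D.B 0) (D.A 0) :=
      Algebra.FinitePresentation.of_restrict_scalars_finitePresentation A (D.B 0) (D.A 0)
    haveI : Module.FinitePresentation (D.B 0) (D.A 0) :=
      Module.FinitePresentation.of_finite_of_finitePresentation (D.B 0) (D.A 0)
    exact Module.FinitePresentation.trans (D.B 0) (D.M 0) (D.A 0)
  have h1 : DimFlatOn (d + 1) A (D.B 0) 1 (D.M 0) := by
    rw [dimFlatOn_transfer (C := D.A 0), ← dimFlatOn_transfer (B := B), ← dimFlatOn_congr D.isoN]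
    exact (dimFlat_iff_dimFlatOn _ isUnit_one N).1 ((flatInDimGE_iff _ _ _).1 hflat)
  obtain ⟨g, hg, -, Z, ι, i1, i2, i3, i4, hZ⟩ := exists_repAt N s D hdim d (D.n - 1) 0 (by omega) hfp 1
    (fun h => Ideal.IsPrime.ne_top ‹_› ((Ideal.eq_top_iff_one s).2 h)) h1
  refine ⟨g, hg, Z, ι, i1, i2, i3, i4,
    fun A' B' N' _ _ _ _ _ _ _ _ _ _ _ _ _ _ _ φ hφ hu => ?_⟩
  haveI : Algebra.IsPushout A A' B B' := Algebra.IsPushout.symm inferInstance
  let C0 := D.A 0
  let C' := A' ⊗[A] C0
  let f : B' →ₐ[A'] C' :=
    (toModel (A := A) (B := B) (C := C0) (A' := A') (C' := C')).comp (Algebra.IsPushout.equiv A A' B B').symm.toAlgHom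
  letI : Algebra B' C' := f.toRingHom.toAlgebra
  haveI : IsScalarTower A' B' C' := .of_algebraMap_eq fun a => (f.commutes a).symm
  letI : Algebra B C' := ((algebraMap C0 C').comp (algebraMap B C0)).toAlgebra
  haveI : IsScalarTower B C0 C' := .of_algebraMap_eq fun _ => rfl
  haveI : IsScalarTower B B' C' := .of_algebraMap_eq fun b => by
    show _ = f (algebraMap B B' b)
    rw [show algebraMap B B' b = Algebra.IsPushout.equiv A A' B B' (1 ⊗ₜ b) by
      rw [Algebra.IsPushout.equiv_tmul, map_one, one_mul]]
    show _ = toModel (A := A) (B := B) (C := C0) (A' := A') (C' := C')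
      ((Algebra.IsPushout.equiv A A' B B').symm (Algebra.IsPushout.equiv A A' B B' (1 ⊗ₜ b)))
    rw [AlgEquiv.symm_apply_apply, toModel_right]
    rfl
  haveI := isPushout_middle A B C0 A' B' C'
  haveI : Module.Finite B' C' := Module.Finite.equiv (Algebra.IsPushout.equiv B B' C0 C').toLinearEquiv
  let M' := C' ⊗[C0] D.M 0
  letI : Module B' M' := Module.compHom M' (algebraMap B' C')
  haveI : IsScalarTower B' C' M' := .of_algebraMap_smul fun _ _ => rfl
  haveI : IsScalarTower A' B' M' := .of_algebraMap_smul fun a m => by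
    rw [← algebraMap_smul C' (algebraMap A' B' a), ← IsScalarTower.algebraMap_apply, algebraMap_smul]
  letI : Module B M' := Module.compHom M' (algebraMap B C')
  haveI : IsScalarTower B C0 M' := .of_algebraMap_smul fun b m => by
    rw [← algebraMap_smul C' (algebraMap B C0 b) m, ← IsScalarTower.algebraMap_apply]
    rfl
  haveI : IsScalarTower B B' M' := .of_algebraMap_smul fun b m => by
    rw [← algebraMap_smul C' (algebraMap B B' b) m, ← IsScalarTower.algebraMap_apply]
    rfl
  let ψ : D.M 0 →ₗ[C0] M' := TensorProduct.mk C0 C' (D.M 0) 1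
  have hψ : IsBaseChange C' ψ := TensorProduct.isBaseChange _ _ _
  have hψB : IsBaseChange B' (ψ.restrictScalars B) := isBaseChange_restrict hψ
  let e : N' ≃ₗ[B'] M' :=
    (hφ.equiv).symm ≪≫ₗ LinearEquiv.baseChange B B' _ _ D.isoN ≪≫ₗ hψB.equiv
  rw [flatInDimGE_iff, dimFlat_iff_dimFlatOn d hu, dimFlatOn_congr e,
    dimFlatOn_transfer (C := C') d, ← dimFlat_iff_dimFlatOn d hu]
  exact hZ A' C' M' ψ hψ hu

end Groth.Agent.H8Norm.FdRing
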