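import Groth.Agent.H8Norm.FdRing.Trdeg
import Groth.Agent.H7Flat.Flatten.Local
import Groth.Agent.H7Flat.DevissageSpread

/-!
# One step of a dévissage for flatness in dimensions at least `n`
-/

set_option autoImplicit false
set_option linter.style.haveILetI false
set_option backward.isDefEq.respectTransparency false
set_option maxHeartbeats 1000000

universe u

open TensorProduct

namespace Groth.Agent.H8Norm.FdRing

open H7Flat H8Props.Devissage

/-- Flatness at the points of transcendence degree at least `n` over a basic open of the base. -/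
def DimFlatOn (n : ℕ) (A B : Type u) [CommRing A] [CommRing B] [Algebra A B] (g : A) (N : Type u)
    [AddCommGroup N] [Module B N] [Module A N] [IsScalarTower A B N] : Prop :=
  ∀ (Q : Ideal B) [Q.IsPrime], g ∉ Q.under A → (n : Cardinal.{u}) ≤ ptr A Q → FlatCA.FlatAt A Q N

section Transfer

variable {A B C : Type u} [CommRing A] [CommRing B] [CommRing C] [Algebra A B] [Algebra A C]
  [Algebra B C] [IsScalarTower A B C] [Algebra.IsIntegral B C] {G : Type u} [AddCommGroup G]
  [Module B G] [Module C G] [IsScalarTower B C G] [Module A G] [IsScalarTower A B G]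
  [IsScalarTower A C G]

/-- Flatness at a point is flatness at all the points over it for an integral map. -/
theorem flatAt_iff_forall_over (Q : Ideal B) [Q.IsPrime] :
    FlatCA.FlatAt A Q G ↔ ∀ (z : Ideal C) [z.IsPrime], z.under B = Q → FlatCA.FlatAt A z G := by
  simp only [FlatCA.FlatAt, FlatAtFinite.flat_localizedModule_iff]
  constructor
  · intro h z _ hz a w hw
    obtain ⟨t, ht, htw⟩ := h a w hw
    refine ⟨algebraMap B C t, fun hm => ht (hz ▸ hm), ?_⟩
    rw [algebraMap_smul, htw]
  · intro h a w hw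
    by_contra! hne
    let J : Ideal C := LinearMap.ker (LinearMap.toSpanSingleton C (G ⊗[A] a) w)
    obtain ⟨z, hJz, hz, hzQ⟩ := Ideal.exists_ideal_over_prime_of_isIntegral Q J fun b hb => by
      by_contra hbQ
      refine hne b hbQ ?_
      rw [← algebraMap_smul C b]
      exact hb
    haveI := hz
    obtain ⟨c, hc, hcw⟩ := h z hzQ a w hw
    exact hc (hJz hcw)

/-- Flatness in high dimensions transfers along integral maps. -/
theorem dimFlatOn_transfer (n : ℕ) (g : A) : DimFlatOn n A B g G ↔ DimFlatOn n A C g G := by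
  constructor
  · intro h z _ hg hn
    refine (flatAt_iff_forall_over (z.under B)).1 (h (z.under B) ?_ ?_) z rfl
    · rwa [Ideal.under_under]
    · rwa [← ptr_of_isIntegral]
  · intro h Q _ hg hn
    refine (flatAt_iff_forall_over (C := C) Q).2 fun z _ hz => h z ?_ ?_
    · subst hz; rwa [Ideal.under_under] at hg
    · subst hz; rwa [ptr_of_isIntegral (B := B)]

end Transfer

theorem dimFlatOn_congr {A B : Type u} [CommRing A] [CommRing B] [Algebra A B] {n : ℕ} {g : A}
    {M M' : Type u} [AddCommGroup M] [Module B M] [Module A M] [IsScalarTower A B M]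
    [AddCommGroup M'] [Module B M'] [Module A M'] [IsScalarTower A B M'] (e : M ≃ₗ[B] M') :
    DimFlatOn n A B g M ↔ DimFlatOn n A B g M' :=
  ⟨fun h Q _ hg hn => DevissageChain.flatAt_congr Q e (h Q hg hn),
    fun h Q _ hg hn => DevissageChain.flatAt_congr Q e.symm (h Q hg hn)⟩

theorem dimFlat_iff_dimFlatOn (n : ℕ) {A B : Type u} [CommRing A] [CommRing B] [Algebra A B] {g : A}
    (hg : IsUnit g) (M : Type u) [AddCommGroup M] [Module B M] [Module A M] [IsScalarTower A B M] :
    DimFlat n A B M ↔ DimFlatOn n A B g M :=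
  ⟨fun h Q _ _ hn => h Q hn, fun h Q hQ hn => h Q (fun hm =>
    (Ideal.IsPrime.under A Q).ne_top (Ideal.eq_top_of_isUnit_mem _ hm hg)) hn⟩

theorem dimFlat_of_flatAt (n : ℕ) {A B : Type u} [CommRing A] [CommRing B] [Algebra A B] (g : A)
    (M : Type u) [AddCommGroup M] [Module B M] [Module A M] [IsScalarTower A B M]
    (h : ∀ (Q : Ideal B) [Q.IsPrime], FlatCA.FlatAt A Q M) : DimFlatOn n A B g M :=
  fun Q _ _ _ => h Q

section Step

variable {A B : Type u} [CommRing A] [CommRing B] [Algebra A B] {M : Type u} [AddCommGroup M]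
  [Module B M] [Module A M] [IsScalarTower A B M] {r : ℕ}

/-- A map which is bijective at the generic point of the fibre over `rr`, into a module flat there, is
universally injective over a neighbourhood of `rr`. -/
theorem exists_kills [Algebra.Smooth A B] (hgi : FlatCA.GeomIrredFibres A B)
    [Module.FinitePresentation B M] (rr : Ideal A) [rr.IsPrime] [(rr.map (algebraMap A B)).IsPrime]
    (α : (Fin r → B) →ₗ[B] M)
    (hα : Function.Bijective (α.baseChange (rr.map (algebraMap A B)).ResidueField))
    (hM : FlatCA.FlatAt A (rr.map (algebraMap A B)) M) :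
    ∃ h : A, h ∉ rr ∧ FiberBasis.Kills A (Submonoid.powers (algebraMap A B h)) α := by
  have hgi' := DevissageChain.geomIntegralFibres hgi
  let P := rr.map (algebraMap A B)
  haveI : P.LiesOver rr := liesOver_map A B rr hgi
  have hk : FiberBasis.Kills A P.primeCompl α := FiberBasis.kills_of_flatAt rr P α hα.1 hM
  have hbij : Function.Bijective (IsLocalizedModule.map P.primeCompl
      (LocalizedModule.mkLinearMap P.primeCompl (Fin r → B)) (LocalizedModule.mkLinearMap P.primeCompl M) α) := by
    change Function.Bijective (LocalizedModule.map P.primeCompl α)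
    refine ⟨FiberBasis.kills_injective _ α hk, fun z => ?_⟩
    induction z using LocalizedModule.induction_on with
    | _ m s =>
      obtain ⟨c, hc, ⟨x, hx⟩⟩ := FiberBasis.exists_smul_mem_range P α hα.2 m
      refine ⟨LocalizedModule.mk x (⟨c, hc⟩ * s), ?_⟩
      rw [LocalizedModule.map_mk, LocalizedModule.mk_eq]
      exact ⟨1, by simp [hx, Submonoid.smul_def, smul_smul, mul_comm]⟩
  obtain ⟨b, hb, hbb⟩ := exists_bijective_map_powers P.primeCompl
    (LocalizedModule.mkLinearMap P.primeCompl (Fin r → B)) (LocalizedModule.mkLinearMap P.primeCompl M) α hbij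
  obtain ⟨h, hh, hle⟩ := Flatten.exists_basicOpen_notMem hgi' b rr hb
  refine ⟨h, hh, FiberBasis.kills_of_kills hgi' (Submonoid.powers (algebraMap A B h)) (Submonoid.powers b)
    (fun p hp hP _ hd => ?_) α ?_⟩
  · refine Set.disjoint_left.mpr ?_
    rintro _ ⟨k, rfl⟩ hk'
    exact hle p (fun hm => Set.disjoint_left.mp hd (Submonoid.mem_powers _) (Ideal.mem_map_of_mem _ hm))
      (hP.mem_of_pow_mem k hk')
  · refine (FiberBasis.univInj_iff _ α).mp fun Q _ _ => ?_
    exact (LinearEquiv.lTensor Q ((LinearEquiv.ofBijective _ (hbb b dvd_rfl)).restrictScalars A)).injective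

theorem kills_mono {F : Type u} [AddCommGroup F] [Module B F] [Module A F] [IsScalarTower A B F]
    {T T' : Submonoid B} (h : T ≤ T') {α : F →ₗ[B] M} (hk : FiberBasis.Kills A T α) :
    FiberBasis.Kills A T' α :=
  fun Q _ _ w hw => (hk Q w hw).imp fun _ ht => ⟨h ht.1, ht.2⟩

theorem powers_le_primeCompl {g h : A} (hdvd : h ∣ g) {Q : Ideal B} [Q.IsPrime] (hg : g ∉ Q.under A) :
    Submonoid.powers (algebraMap A B h) ≤ Q.primeCompl :=
  Submonoid.powers_le.2 fun hm => hg (Ideal.mem_of_dvd _ hdvd hm)

/-- The cokernel inherits flatness in high dimensions. -/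
theorem dimFlatOn_coker {n : ℕ} {g h : A} (hdvd : h ∣ g) {α : (Fin r → B) →ₗ[B] M}
    (hk : FiberBasis.Kills A (Submonoid.powers (algebraMap A B h)) α) (hM : DimFlatOn n A B g M) :
    DimFlatOn n A B g (M ⧸ LinearMap.range α) := fun Q _ hg hn =>
  FiberBasis.flatAt_coker Q α (hM Q hg hn) (kills_mono (powers_le_primeCompl hdvd hg) hk)

end Step

section BaseChange

variable {A B A' B' : Type u} [CommRing A] [CommRing B] [CommRing A'] [CommRing B'] [Algebra A B]
  [Algebra A A'] [Algebra A' B'] [Algebra A B'] [Algebra B B'] [IsScalarTower A A' B']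
  [IsScalarTower A B B'] [Algebra.IsPushout A A' B B'] {M M' : Type u} [AddCommGroup M] [Module B M]
  [Module A M] [IsScalarTower A B M] [AddCommGroup M'] [Module B' M'] [Module B M'] [IsScalarTower B B' M']
  [Module A' M'] [IsScalarTower A' B' M'] [Module A M'] [IsScalarTower A A' M'] [IsScalarTower A B M']
  {r : ℕ}

/-- Universal injectivity is inherited by base changes. -/
theorem kills_baseChange (α : (Fin r → B) →ₗ[B] M) (φ : M →ₗ[B] M') (hφ : IsBaseChange B' φ) (h : A)
    (hu : IsUnit (algebraMap A A' h)) (hk : FiberBasis.Kills A (Submonoid.powers (algebraMap A B h)) α) :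
    FiberBasis.Kills A' (⊥ : Submonoid B') (baseChangeFree r α φ (B' := B')) := by
  classical
  intro Q _ _ w hw
  refine ⟨1, one_mem _, ?_⟩
  rw [one_smul]
  letI : Module A Q := Module.compHom Q (algebraMap A A')
  haveI : IsScalarTower A A' Q := .of_algebraMap_smul fun _ _ => rfl
  let φF : (Fin r → B) →ₗ[A] (Fin r → B') := (IsScalarTower.toAlgHom A B B').toLinearMap.compLeft (Fin r)
  have hφF : IsBaseChange A' φF :=
    IsBaseChange.finitePow (Fin r) (Algebra.IsPushout.out (R := A) (S := A') (R' := B) (S' := B'))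
  have hφA : IsBaseChange A' (φ.restrictScalars A) := isBaseChange_restrict hφ
  let u := (baseChangeFree r α φ (B' := B')).restrictScalars A'
  let ψF : Q ⊗[A] (Fin r → B) ≃ₗ[A'] Q ⊗[A'] (Fin r → B') :=
    (AlgebraTensorModule.cancelBaseChange A A' A' Q (Fin r → B)).symm ≪≫ₗ
      TensorProduct.congr (LinearEquiv.refl A' Q) hφF.equiv
  let ψM : Q ⊗[A] M ≃ₗ[A'] Q ⊗[A'] M' :=
    (AlgebraTensorModule.cancelBaseChange A A' A' Q M).symm ≪≫ₗ
      TensorProduct.congr (LinearEquiv.refl A' Q) hφA.equiv
  have hFt : ∀ q x, ψF (q ⊗ₜ x) = q ⊗ₜ φF x := fun q x => by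
    simp [ψF, IsBaseChange.equiv_tmul]
  have hMt : ∀ q m, ψM (q ⊗ₜ m) = q ⊗ₜ φ m := fun q m => by
    simp [ψM, IsBaseChange.equiv_tmul]
  have hu' : ∀ x, u (φF x) = φ (α x) := fun x => by
    conv_rhs => rw [pi_eq_sum_univ x]
    simp only [u, LinearMap.restrictScalars_apply, baseChangeFree, Module.Basis.constr_apply_fintype,
      map_sum, map_smul, Pi.basisFun_equivFun, LinearEquiv.refl_apply]
    refine Finset.sum_congr rfl fun j _ => ?_
    show algebraMap B B' (x j) • φ (α (Pi.basisFun B (Fin r) j)) = _
    rw [algebraMap_smul]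
    congr 3
    funext i
    simp [Pi.basisFun_apply, Pi.single_apply, eq_comm]
  have hcomm : ∀ z, u.lTensor Q (ψF z) = ψM ((α.restrictScalars A).lTensor Q z) := by
    intro z
    induction z using TensorProduct.induction_on with
    | zero => simp
    | add a b ha hb => simp only [map_add, ha, hb]
    | tmul q x => rw [hFt, LinearMap.lTensor_tmul, LinearMap.lTensor_tmul, hMt, hu']; rfl
  let c := TensorProduct.comm A' (Fin r → B') Q
  obtain ⟨z, hz⟩ := ψF.surjective (c w)
  have h1 : u.lTensor Q (c w) = 0 := by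
    have : u.lTensor Q (c w) = TensorProduct.comm A' M' Q (u.rTensor Q w) := by
      clear hz hw
      induction w using TensorProduct.induction_on with
      | zero => simp
      | add a b ha hb => simp only [map_add, ha, hb]
      | tmul x q => simp [c]
    rw [this, show u.rTensor Q w = 0 from hw, map_zero]
  rw [← hz, hcomm, LinearEquiv.map_eq_zero_iff] at h1
  let c₀ := TensorProduct.comm A Q (Fin r → B)
  have h2 : (α.restrictScalars A).rTensor Q (c₀ z) = 0 := by
    have : (α.restrictScalars A).rTensor Q (c₀ z) =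
        TensorProduct.comm A Q M ((α.restrictScalars A).lTensor Q z) := by
      clear hz h1
      induction z using TensorProduct.induction_on with
      | zero => simp
      | add a b ha hb => simp only [map_add, ha, hb]
      | tmul q x => simp [c₀]
    rw [this, h1, map_zero]
  obtain ⟨_, ⟨k, rfl⟩, hk0⟩ := hk Q (c₀ z) h2
  have h3 : h ^ k • c₀ z = 0 := by
    rw [← algebraMap_smul B (h ^ k), map_pow]
    exact hk0
  rw [← map_smul, LinearEquiv.map_eq_zero_iff] at h3
  have h4 : h ^ k • ψF z = 0 :=
    ((ψF.toLinearMap.restrictScalars A).map_smul (h ^ k) z).symm.trans ((congrArg ψF h3).trans (map_zero ψF))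
  rw [← algebraMap_smul A' (h ^ k), map_pow] at h4
  have h5 : ψF z = 0 := (hu.pow k).smul_eq_zero.1 h4
  exact c.map_eq_zero_iff.1 (hz ▸ h5)

/-- One step of a dévissage after base change. -/
theorem dimFlat_step [Module.Flat A' B'] (n : ℕ) (g : A') (α : (Fin r → B) →ₗ[B] M) (φ : M →ₗ[B] M')
    (hφ : IsBaseChange B' φ) (h : A) (hu : IsUnit (algebraMap A A' h))
    (hk : FiberBasis.Kills A (Submonoid.powers (algebraMap A B h)) α) :
    DimFlatOn n A' B' g M' ↔
      DimFlatOn n A' B' g (M' ⧸ LinearMap.range (baseChangeFree r α φ (B' := B'))) := by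
  have hK := kills_baseChange (A' := A') α φ hφ h hu hk
  haveI : Module.Flat A' (Fin r → B') := Module.Flat.trans A' B' _
  refine ⟨fun H Q _ hg hn => FiberBasis.flatAt_coker Q _ (H Q hg hn) (kills_mono bot_le hK),
    fun H Q _ hg hn => ?_⟩
  exact FiberBasis.flatAt_of_injective Q _ (FiberBasis.kills_injective _ _ (kills_mono bot_le hK)) (H Q hg hn)

end BaseChange

end Groth.Agent.H8Norm.FdRing
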