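import Groth.Agent.H8Props.FunDescent.GenericFlat
import Groth.Agent.H22Alg.SpecResidue
import Groth.Agent.H7Flat.Horizontal.Dim
import Groth.Agent.H8Props.Devissage.Pieces
import Groth.Prelude.Def_FlatCA

/-!
# Transcendence degrees of points over the base, in ring form
-/

set_option autoImplicit false
set_option linter.style.haveILetI false

universe u

open CategoryTheory AlgebraicGeometry

namespace Groth.Agent.H8Norm.FdRing

variable (A : Type u) {B : Type u} [CommRing A] [CommRing B] [Algebra A B]

/-- The transcendence degree of the residue field at `Q` over that of the base. -/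
noncomputable def ptr (Q : Ideal B) [Q.IsPrime] : Cardinal.{u} :=
  letI : Algebra (Q.under A).ResidueField Q.ResidueField :=
    (Ideal.ResidueField.mapₐ (Q.under A) Q (Algebra.ofId A B) rfl).toRingHom.toAlgebra
  Algebra.trdeg (Q.under A).ResidueField Q.ResidueField

/-- Flatness at all points of transcendence degree at least `n`. -/
def DimFlat (n : ℕ) (A B : Type u) [CommRing A] [CommRing B] [Algebra A B] (N : Type u)
    [AddCommGroup N] [Module B N] [Module A N] [IsScalarTower A B N] : Prop :=
  ∀ (Q : Ideal B) [Q.IsPrime], (n : Cardinal.{u}) ≤ ptr A Q → FlatCA.FlatAt A Q N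

theorem flatInDimGE_iff (n : ℕ) (N : Type u) [AddCommGroup N] [Module B N] [Module A N]
    [IsScalarTower A B N] : FlatCA.FlatInDimGE n A B N ↔ DimFlat n A B N := by
  constructor
  · intro h Q _ hn
    by_contra hf
    exact not_lt.2 hn (h (Q.under A) Q (h := ⟨rfl⟩) hf)
  · intro h t Q _ _ hQ hf
    obtain rfl : t = Q.under A := hQ.over
    exact lt_of_not_ge fun hn => hf (h Q hn)

theorem ptr_eq_pointTrdeg (Q : Ideal B) [Q.IsPrime] :
    ptr A Q = H8Props.FunDescent.pointTrdeg (Spec.map (CommRingCat.ofHom (algebraMap A B)))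
      (⟨Q, inferInstance⟩ : PrimeSpectrum B) := by
  let f := Spec.map (CommRingCat.ofHom (algebraMap A B))
  let x : Spec (CommRingCat.of B) := (⟨Q, inferInstance⟩ : PrimeSpectrum B)
  letI : Algebra (Q.under A).ResidueField Q.ResidueField :=
    (Ideal.ResidueField.mapₐ (Q.under A) Q (Algebra.ofId A B) rfl).toRingHom.toAlgebra
  letI := (f.residueFieldMap x).hom.toAlgebra
  let ι₁ := Scheme.Spec.residueFieldIso (CommRingCat.of A) (f x)
  let ι₂ := Scheme.Spec.residueFieldIso (CommRingCat.of B) x
  refine H7Flat.Horizontal.trdeg_congr ι₁.inv.hom ι₂.inv.hom ι₁.commRingCatIsoToRingEquiv.symm.bijective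
    ι₂.commRingCatIsoToRingEquiv.symm.bijective fun c => ?_
  suffices h : ι₂.inv.hom.comp (algebraMap (Q.under A).ResidueField Q.ResidueField) =
      (f.residueFieldMap x).hom.comp ι₁.inv.hom from RingHom.congr_fun h c
  refine Ideal.ResidueField.ringHom_ext (RingHom.ext fun a => ?_)
  have h1 := H22Alg.residueFieldMap_specEv (CommRingCat.ofHom (algebraMap A B)) x a
  rw [H22Alg.specEv_eq, H22Alg.specEv_eq] at h1
  refine Eq.trans ?_ h1.symm
  show ι₂.inv.hom (Ideal.ResidueField.map (Q.under A) Q (algebraMap A B) rfl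
    (algebraMap A (Q.under A).ResidueField a)) = ι₂.inv.hom (algebraMap B Q.ResidueField (algebraMap A B a))
  rw [Ideal.ResidueField.map_algebraMap]

section Smooth

open H8Props.FunDescent H8Props.FieldDim

/-- The fibres of a smooth morphism of relative dimension `d` with irreducible fibres. -/
theorem pointTrdeg_facts {X T : Scheme.{u}} (q : X ⟶ T) (d : ℕ) [SmoothOfRelativeDimension d q]
    [GeometricallyIrreducible q] (x : X) : ∃ s : ℕ, pointTrdeg q x = s ∧ s ≤ d := by
  let t := q x
  haveI : Smooth q := SmoothOfRelativeDimension.smooth d q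
  haveI := locallyOfFiniteType_fiberToSpec q t
  let η : q.fiber t := genericPoint _
  have hη : cdim η = (d : WithBot ℕ∞) := by
    rw [← fibreDimAt_of_smoothOfRelativeDimension q d x]
    show cdim η = FlatMor.localDim (q.fiber t) (q.asFiber x)
    rw [@localDim_eq (T.residueField t) _ _ (q.fiberToSpecResidueField t) ‹_›]
    exact le_antisymm (le_iSup_of_le ⟨η, genericPoint_specializes _⟩ le_rfl) (iSup_le fun u =>
      dim_mono (closure_minimal (Set.singleton_subset_iff.2 (genericPoint_specializes u.1).mem_closure)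
        isClosed_closure))
  obtain ⟨s, hs, hs'⟩ := exists_cdim_pointTrdeg q (q.asFiber x) (q.fiberι_asFiber x)
  refine ⟨s, hs', ?_⟩
  have hle : cdim (q.asFiber x) ≤ cdim η :=
    dim_mono (closure_minimal (Set.singleton_subset_iff.2 (genericPoint_specializes _).mem_closure)
      isClosed_closure)
  rw [hs, hη] at hle
  exact_mod_cast hle

variable {A} (e : ℕ) (hsm : FlatCA.SmoothRelDim e A B) (hgi : FlatCA.GeomIrredFibres A B)

include hsm hgi

theorem ptr_le (Q : Ideal B) [Q.IsPrime] : ptr A Q ≤ (e : Cardinal.{u}) := by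
  haveI : SmoothOfRelativeDimension e (Spec.map (CommRingCat.ofHom (algebraMap A B))) := hsm
  haveI : GeometricallyIrreducible (Spec.map (CommRingCat.ofHom (algebraMap A B))) := hgi
  obtain ⟨s, hs, hse⟩ := pointTrdeg_facts (Spec.map (CommRingCat.ofHom (algebraMap A B))) e
    (⟨Q, inferInstance⟩ : PrimeSpectrum B)
  rw [ptr_eq_pointTrdeg, hs]
  exact_mod_cast hse

theorem le_ptr_iff (Q : Ideal B) [Q.IsPrime] :
    (e : Cardinal.{u}) ≤ ptr A Q ↔ Q = (Q.under A).map (algebraMap A B) := by
  haveI : SmoothOfRelativeDimension e (Spec.map (CommRingCat.ofHom (algebraMap A B))) := hsm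
  haveI : GeometricallyIrreducible (Spec.map (CommRingCat.ofHom (algebraMap A B))) := hgi
  haveI : Smooth (Spec.map (CommRingCat.ofHom (algebraMap A B))) :=
    SmoothOfRelativeDimension.smooth e _
  haveI : Algebra.Smooth A B :=
    RingHom.smooth_algebraMap.1 ((HasRingHomProperty.Spec_iff (P := @Smooth)
      (φ := CommRingCat.ofHom (algebraMap A B))).1 inferInstance)
  have hP := H8Props.Devissage.isPrime_map A B (Q.under A) hgi
  have hPc : ((Q.under A).map (algebraMap A B)).comap (algebraMap A B) = Q.under A :=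
    ((H8Props.Devissage.liesOver_map A B (Q.under A) hgi).over).symm
  rw [ptr_eq_pointTrdeg, le_pointTrdeg_iff_isGenericPtOfFibre]
  constructor
  · intro h
    have h1 : (⟨Q, inferInstance⟩ : PrimeSpectrum B) ⤳ ⟨_, hP⟩ :=
      h (⟨_, hP⟩ : PrimeSpectrum B) (PrimeSpectrum.ext hPc)
    exact le_antisymm ((PrimeSpectrum.le_iff_specializes _ _).2 h1) Ideal.map_comap_le
  · intro hQ x hx
    refine (PrimeSpectrum.le_iff_specializes (⟨Q, inferInstance⟩ : PrimeSpectrum B) x).1 ?_
    show Q ≤ x.asIdeal
    rw [hQ, Ideal.map_le_iff_le_comap]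
    exact (congrArg PrimeSpectrum.asIdeal hx).ge

theorem le_ptr_map (n : ℕ) (hn : n ≤ e) (t : Ideal A) [t.IsPrime]
    [(t.map (algebraMap A B)).IsPrime] : (n : Cardinal.{u}) ≤ ptr A (t.map (algebraMap A B)) := by
  refine le_trans (Nat.cast_le.2 hn) ((le_ptr_iff e hsm hgi _).2 ?_)
  haveI : SmoothOfRelativeDimension e (Spec.map (CommRingCat.ofHom (algebraMap A B))) := hsm
  haveI : Smooth (Spec.map (CommRingCat.ofHom (algebraMap A B))) :=
    SmoothOfRelativeDimension.smooth e _
  haveI : Algebra.Smooth A B :=
    RingHom.smooth_algebraMap.1 ((HasRingHomProperty.Spec_iff (P := @Smooth)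
      (φ := CommRingCat.ofHom (algebraMap A B))).1 inferInstance)
  show t.map (algebraMap A B) = ((t.map (algebraMap A B)).under A).map (algebraMap A B)
  rw [← (H8Props.Devissage.liesOver_map A B t hgi).over]

end Smooth

/-- An integral map does not change transcendence degrees over the base. -/
theorem ptr_of_isIntegral {A B C : Type u} [CommRing A] [CommRing B] [CommRing C] [Algebra A B]
    [Algebra A C] [Algebra B C] [IsScalarTower A B C] [Algebra.IsIntegral B C]
    (z : Ideal C) [z.IsPrime] : ptr A z = ptr A (z.under B) := by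
  let Q := z.under B
  have hcomp : (Q.under A) = z.under A := Ideal.under_under (B := B) z
  letI : Algebra (Q.under A).ResidueField Q.ResidueField :=
    (Ideal.ResidueField.mapₐ (Q.under A) Q (Algebra.ofId A B) rfl).toRingHom.toAlgebra
  letI : Algebra Q.ResidueField z.ResidueField :=
    (Ideal.ResidueField.mapₐ Q z (Algebra.ofId B C) rfl).toRingHom.toAlgebra
  letI : Algebra (Q.under A).ResidueField z.ResidueField :=
    ((algebraMap Q.ResidueField z.ResidueField).comp (algebraMap (Q.under A).ResidueField Q.ResidueField)).toAlgebra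
  haveI : IsScalarTower (Q.under A).ResidueField Q.ResidueField z.ResidueField :=
    .of_algebraMap_eq fun _ => rfl
  haveI : IsScalarTower B Q.ResidueField z.ResidueField := .of_algebraMap_eq fun b => by
    show _ = Ideal.ResidueField.map Q z (algebraMap B C) rfl (algebraMap B Q.ResidueField b)
    rw [Ideal.ResidueField.map_algebraMap, ← IsScalarTower.algebraMap_apply]
  haveI : Algebra.IsAlgebraic Q.ResidueField z.ResidueField := by
    refine ⟨fun y => ?_⟩
    obtain ⟨u, v, hv, rfl⟩ := IsFractionRing.div_surjective (A := C ⧸ z) y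
    obtain ⟨u, rfl⟩ := Ideal.Quotient.mk_surjective u
    obtain ⟨v, rfl⟩ := Ideal.Quotient.mk_surjective v
    have halg : ∀ c : C, IsAlgebraic Q.ResidueField (algebraMap C z.ResidueField c) := fun c =>
      ((Algebra.IsIntegral.isIntegral (R := B) c).map (IsScalarTower.toAlgHom B C z.ResidueField)
        |>.tower_top (A := Q.ResidueField)).isAlgebraic
    rw [div_eq_mul_inv]
    exact (halg u).mul (halg v).inv
  have h := trdeg_add_eq (Q.under A).ResidueField Q.ResidueField (A := z.ResidueField)
  rw [trdeg_eq_zero_iff.2 ‹Algebra.IsAlgebraic Q.ResidueField z.ResidueField›, add_zero] at h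
  unfold ptr
  letI : Algebra (z.under A).ResidueField z.ResidueField :=
    (Ideal.ResidueField.mapₐ (z.under A) z (Algebra.ofId A C) rfl).toRingHom.toAlgebra
  refine Eq.trans ?_ h.symm
  let e1 : (z.under A).ResidueField →+* (Q.under A).ResidueField :=
    Ideal.ResidueField.map (z.under A) (Q.under A) (RingHom.id A) (by rw [Ideal.comap_id, hcomp])
  have he1 : Function.Bijective e1 := by
    refine ⟨e1.injective, fun y => ?_⟩
    refine ⟨Ideal.ResidueField.map (Q.under A) (z.under A) (RingHom.id A) (by rw [Ideal.comap_id, hcomp]) y, ?_⟩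
    suffices h' : e1.comp (Ideal.ResidueField.map (Q.under A) (z.under A) (RingHom.id A)
        (by rw [Ideal.comap_id, hcomp])) = RingHom.id _ from RingHom.congr_fun h' y
    refine Ideal.ResidueField.ringHom_ext (RingHom.ext fun a => ?_)
    simp [e1]
  refine H7Flat.Horizontal.trdeg_congr e1 (RingHom.id _) he1 Function.bijective_id fun c => ?_
  suffices h' : (algebraMap (z.under A).ResidueField z.ResidueField) =
      (algebraMap (Q.under A).ResidueField z.ResidueField).comp e1 from RingHom.congr_fun h' c
  refine Ideal.ResidueField.ringHom_ext (RingHom.ext fun a => ?_)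
  show Ideal.ResidueField.map (z.under A) z (algebraMap A C) rfl (algebraMap A _ a) =
    Ideal.ResidueField.map Q z (algebraMap B C) rfl (Ideal.ResidueField.map (Q.under A) Q (algebraMap A B) rfl
      (e1 (algebraMap A _ a)))
  simp only [e1, Ideal.ResidueField.map_algebraMap, RingHom.id_apply, ← IsScalarTower.algebraMap_apply A B C]

end Groth.Agent.H8Norm.FdRing
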